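import Mathlib

namespace Groth.Agent.H5.ZIdem

universe u

variable (A B : Type u) [CommRing A] [CommRing B] [Algebra A B]

/-- The ideal of "good" elements `g` of the integral closure `B'`: those with `B'[1/g] = B[1/g]`. -/
def good : Ideal (integralClosure A B) where
  carrier := {g | ∀ x : B, ∃ m : ℕ, IsIntegral A ((g : B) ^ m * x)}
  zero_mem' := fun x => ⟨1, by simpa using isIntegral_zero⟩
  add_mem' := by
    intro g h hg hh x
    obtain ⟨m₁, hm₁⟩ := hg x
    choose n hn using fun i : ℕ => hh ((g : B) ^ i * x)
    refine ⟨m₁ + (Finset.range m₁).sup n, ?_⟩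
    have hgi : IsIntegral A (g : B) := g.2
    have hhi : IsIntegral A (h : B) := h.2
    rw [Subalgebra.coe_add, add_pow, Finset.sum_mul]
    refine IsIntegral.sum _ fun i hi => ?_
    rw [Finset.mem_range] at hi
    by_cases hi1 : m₁ ≤ i
    · have e1 : (g : B) ^ i * (h : B) ^ (m₁ + (Finset.range m₁).sup n - i) *
          ((m₁ + (Finset.range m₁).sup n).choose i : B) * x =
          ((m₁ + (Finset.range m₁).sup n).choose i : B) *
            ((h : B) ^ (m₁ + (Finset.range m₁).sup n - i) * ((g : B) ^ (i - m₁) *
              ((g : B) ^ m₁ * x))) := by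
        have : (g : B) ^ i = (g : B) ^ (i - m₁) * (g : B) ^ m₁ := by
          rw [← pow_add, Nat.sub_add_cancel hi1]
        rw [this]
        ring
      rw [e1]
      exact (isIntegral_natCast _).mul ((hhi.pow _).mul ((hgi.pow _).mul hm₁))
    · push Not at hi1
      have hle : n i ≤ m₁ + (Finset.range m₁).sup n - i := by
        have h1 : n i ≤ (Finset.range m₁).sup n := Finset.le_sup (Finset.mem_range.mpr hi1)
        omega
      have e1 : (g : B) ^ i * (h : B) ^ (m₁ + (Finset.range m₁).sup n - i) *
          ((m₁ + (Finset.range m₁).sup n).choose i : B) * x =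
          ((m₁ + (Finset.range m₁).sup n).choose i : B) *
            ((h : B) ^ (m₁ + (Finset.range m₁).sup n - i - n i) *
              ((h : B) ^ (n i) * ((g : B) ^ i * x))) := by
        have : (h : B) ^ (m₁ + (Finset.range m₁).sup n - i) =
            (h : B) ^ (m₁ + (Finset.range m₁).sup n - i - n i) * (h : B) ^ (n i) := by
          rw [← pow_add, Nat.sub_add_cancel hle]
        rw [this]
        ring
      rw [e1]
      exact (isIntegral_natCast _).mul ((hhi.pow _).mul (hn i))
  smul_mem' := by
    intro b g hg x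
    obtain ⟨m, hm⟩ := hg x
    refine ⟨m, ?_⟩
    have hb : IsIntegral A (b : B) := b.2
    have : ((b • g : integralClosure A B) : B) ^ m * x = (b : B) ^ m * ((g : B) ^ m * x) := by
      rw [smul_eq_mul, Subalgebra.coe_mul, mul_pow, mul_assoc]
    rw [this]
    exact (hb.pow m).mul hm

variable {A B}

theorem mem_good_iff (g : integralClosure A B) :
    g ∈ good A B ↔ ∀ x : B, ∃ m : ℕ, IsIntegral A ((g : B) ^ m * x) := Iff.rfl

/-- exponents can be increased. -/
theorem good_pow_ge {g : integralClosure A B} {x : B} {m : ℕ}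
    (hm : IsIntegral A ((g : B) ^ m * x)) {k : ℕ} (hk : m ≤ k) :
    IsIntegral A ((g : B) ^ k * x) := by
  have hgi : IsIntegral A (g : B) := g.2
  have : (g : B) ^ k * x = (g : B) ^ (k - m) * ((g : B) ^ m * x) := by
    rw [← mul_assoc, ← pow_add, Nat.sub_add_cancel hk]
  rw [this]
  exact (hgi.pow _).mul hm

end Groth.Agent.H5.ZIdem
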