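import Mathlib
import Groth.Agent.Lib.Helper5.ZIdem.A

namespace Groth.Agent.H5.ZIdem

universe u

variable {A B C : Type u} [CommRing A] [CommRing B] [Algebra A B] [CommRing C] [Algebra A C]

/-- If `B → B_q/pB_q` factors through a quasi-finite `A`-algebra `C` which `B` surjects onto,
then `B` is (weakly) quasi-finite at `q`. -/
theorem weaklyQuasiFiniteAt_of_surjective [Algebra.QuasiFinite A C] (q : Ideal B) [q.IsPrime]
    (ρ : B →ₐ[A] C) (hρ : Function.Surjective ρ)
    (hker : ∀ b ∈ RingHom.ker ρ, algebraMap B (Localization.AtPrime q) b ∈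
      (q.under A).map (algebraMap A (Localization.AtPrime q))) :
    Algebra.WeaklyQuasiFiniteAt A q := by
  rw [Algebra.weaklyQuasiFiniteAt_iff]
  set P := (q.under A).map (algebraMap A (Localization.AtPrime q)) with hP
  let τ : B →ₐ[A] (Localization.AtPrime q ⧸ P) :=
    (Ideal.Quotient.mkₐ A P).comp (IsScalarTower.toAlgHom A B (Localization.AtPrime q))
  have hτ : ∀ b ∈ RingHom.ker ρ, τ b = 0 := by
    intro b hb
    show Ideal.Quotient.mk P (algebraMap B (Localization.AtPrime q) b) = 0
    rw [Ideal.Quotient.eq_zero_iff_mem]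
    exact hker b hb
  let f : C →ₐ[A] (Localization.AtPrime q ⧸ P) :=
    (Ideal.Quotient.liftₐ (RingHom.ker ρ) τ hτ).comp
      (Ideal.quotientKerAlgEquivOfSurjective hρ).symm.toAlgHom
  have hf : ∀ b : B, f (ρ b) = τ b := by
    intro b
    have : (Ideal.quotientKerAlgEquivOfSurjective hρ).symm (ρ b) = Ideal.Quotient.mk _ b := by
      rw [AlgEquiv.symm_apply_eq]
      rfl
    show (Ideal.Quotient.liftₐ (RingHom.ker ρ) τ hτ)
      ((Ideal.quotientKerAlgEquivOfSurjective hρ).symm (ρ b)) = τ b
    rw [this]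
    rfl
  refine Algebra.QuasiFinite.of_forall_exists_mul_mem_range f ?_
  intro x
  obtain ⟨x, rfl⟩ := Ideal.Quotient.mk_surjective x
  obtain ⟨b, s, rfl⟩ := IsLocalization.exists_mk'_eq q.primeCompl x
  refine ⟨ρ s, ?_, ρ b, ?_⟩
  · rw [hf]
    show IsUnit (Ideal.Quotient.mk P (algebraMap B (Localization.AtPrime q) s))
    exact (IsLocalization.map_units (Localization.AtPrime q) s).map _
  · show f (ρ b) = _
    rw [hf, hf]
    show Ideal.Quotient.mk P (algebraMap B (Localization.AtPrime q) b) =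
      Ideal.Quotient.mk P (IsLocalization.mk' _ b s) *
        Ideal.Quotient.mk P (algebraMap B (Localization.AtPrime q) s)
    rw [← map_mul, IsLocalization.mk'_spec]

/-- Zariski's main theorem in the "good ideal" form. -/
theorem exists_good_notMem [Algebra.FiniteType A B] [Algebra.QuasiFinite A C] (q : Ideal B)
    [q.IsPrime] (ρ : B →ₐ[A] C) (hρ : Function.Surjective ρ)
    (hker : ∀ b ∈ RingHom.ker ρ, algebraMap B (Localization.AtPrime q) b ∈
      (q.under A).map (algebraMap A (Localization.AtPrime q))) :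
    ∃ r ∈ good A B, (r : B) ∉ q := by
  haveI := weaklyQuasiFiniteAt_of_surjective q ρ hρ hker
  have h := Algebra.ZariskisMainProperty.of_finiteType_of_weaklyQuasiFiniteAt (R := A) q
  rw [Algebra.zariskisMainProperty_iff] at h
  obtain ⟨r, hrq, hr, H⟩ := h
  exact ⟨⟨r, hr⟩, H, hrq⟩

end Groth.Agent.H5.ZIdem
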