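import Mathlib
import Groth.Agent.Lib.Helper5.ZIdem.B

namespace Groth.Agent.H5.ZIdem

universe u

section Setup

variable {A B : Type u} [CommRing A] [CommRing B] [Algebra A B] (I : Ideal A)
  (e : B ⧸ Ideal.map (algebraMap A B) I)

/-- the surjection `B → C₁`. -/
noncomputable def rho : B →ₐ[A] ((B ⧸ Ideal.map (algebraMap A B) I) ⧸ Ideal.span {1 - e}) :=
  (Ideal.Quotient.mkₐ A (Ideal.span {1 - e})).comp (Ideal.Quotient.mkₐ A (Ideal.map (algebraMap A B) I))

lemma rho_surjective : Function.Surjective (rho I e) := by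
  intro y
  obtain ⟨y, rfl⟩ := Ideal.Quotient.mk_surjective y
  obtain ⟨y, rfl⟩ := Ideal.Quotient.mk_surjective y
  exact ⟨y, rfl⟩

lemma rho_apply (b : B) : rho I e b = Ideal.Quotient.mk _ (Ideal.Quotient.mk _ b) := rfl

lemma mem_ker_rho {b : B} : b ∈ RingHom.ker (rho I e) ↔
    ∃ c : B ⧸ Ideal.map (algebraMap A B) I, c * (1 - e) = Ideal.Quotient.mk _ b := by
  rw [RingHom.mem_ker, rho_apply, Ideal.Quotient.eq_zero_iff_mem, Ideal.mem_span_singleton']

lemma map_le_ker_rho : Ideal.map (algebraMap A B) I ≤ RingHom.ker (rho I e) := by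
  intro b hb
  rw [RingHom.mem_ker, rho_apply, Ideal.Quotient.eq_zero_iff_mem.mpr hb, map_zero]

instance finite_of_finite [h : Module.Finite (A ⧸ I) ((B ⧸ Ideal.map (algebraMap A B) I) ⧸ Ideal.span {1 - e})] :
    Module.Finite A ((B ⧸ Ideal.map (algebraMap A B) I) ⧸ Ideal.span {1 - e}) :=
  Module.Finite.trans (A ⧸ I) _

/-- the key containment for primes over `ker ρ`. -/
lemma hker_of_le (he : IsIdempotentElem e) (q : Ideal B) [q.IsPrime]
    (hq : RingHom.ker (rho I e) ≤ q) :
    ∀ b ∈ RingHom.ker (rho I e), algebraMap B (Localization.AtPrime q) b ∈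
      (q.under A).map (algebraMap A (Localization.AtPrime q)) := by
  set P := (q.under A).map (algebraMap A (Localization.AtPrime q)) with hP
  -- I ≤ q.under A
  have hI : I ≤ q.under A := by
    intro a ha
    rw [Ideal.mem_comap]
    exact hq (map_le_ker_rho I e (Ideal.mem_map_of_mem _ ha))
  -- elements of IB map into P
  have hIB : ∀ b ∈ Ideal.map (algebraMap A B) I, algebraMap B (Localization.AtPrime q) b ∈ P := by
    intro b hb
    have h1 : Ideal.map (algebraMap A B) I ≤ P.comap (algebraMap B (Localization.AtPrime q)) := by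
      rw [Ideal.map_le_iff_le_comap]
      intro a ha
      rw [Ideal.mem_comap, Ideal.mem_comap, ← IsScalarTower.algebraMap_apply]
      exact Ideal.mem_map_of_mem _ (hI ha)
    exact h1 hb
  obtain ⟨eB, heB⟩ := Ideal.Quotient.mk_surjective e
  -- 1 - eB ∈ ker ρ
  have h1e : (1 - eB) ∈ RingHom.ker (rho I e) := by
    rw [mem_ker_rho]
    exact ⟨1, by rw [one_mul, map_sub, map_one, heB]⟩
  have heq : eB ∉ q := by
    intro h
    have : (1 : B) ∈ q := by
      have := q.add_mem h (hq h1e)
      simpa using this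
    exact (Ideal.IsPrime.ne_top inferInstance) ((Ideal.eq_top_iff_one q).mpr this)
  have hunit : IsUnit (algebraMap B (Localization.AtPrime q) eB) :=
    IsLocalization.map_units (Localization.AtPrime q) (⟨eB, heq⟩ : q.primeCompl)
  -- eB (1 - eB) ∈ IB
  have hprod : eB * (1 - eB) ∈ Ideal.map (algebraMap A B) I := by
    rw [← Ideal.Quotient.eq_zero_iff_mem, map_mul, map_sub, map_one, heB, mul_sub, mul_one,
      he.eq, sub_self]
  have h1eP : algebraMap B (Localization.AtPrime q) (1 - eB) ∈ P := by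
    have h2 := hIB _ hprod
    rw [map_mul] at h2
    exact (Ideal.unit_mul_mem_iff_mem P hunit).mp h2
  intro b hb
  rw [mem_ker_rho] at hb
  obtain ⟨c, hc⟩ := hb
  obtain ⟨cB, rfl⟩ := Ideal.Quotient.mk_surjective c
  have h3 : b - cB * (1 - eB) ∈ Ideal.map (algebraMap A B) I := by
    rw [← Ideal.Quotient.eq_zero_iff_mem, map_sub, map_mul, map_sub, map_one, heB, hc, sub_self]
  have h4 := hIB _ h3
  rw [map_sub, map_mul] at h4
  have h5 : algebraMap B (Localization.AtPrime q) cB * algebraMap B (Localization.AtPrime q) (1 - eB) ∈ P :=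
    P.mul_mem_left _ h1eP
  have := P.add_mem h4 h5
  simpa using this

end Setup

end Groth.Agent.H5.ZIdem
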