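import Mathlib
import Groth.Agent.Lib.Helper5.ZIdem.C

namespace Groth.Agent.H5.ZIdem

universe u

/-- lying over for an integral algebra hom. -/
theorem exists_prime_comap_eq {A B' C : Type u} [CommRing A] [CommRing B'] [CommRing C]
    [Algebra A B'] [Algebra A C] [Algebra.IsIntegral A C] (ψ : B' →ₐ[A] C)
    (P : Ideal B') [P.IsPrime] (hP : RingHom.ker ψ ≤ P) :
    ∃ Q : Ideal C, Q.IsPrime ∧ Q.comap ψ = P := by
  letI : Algebra B' C := ψ.toRingHom.toAlgebra
  haveI : IsScalarTower A B' C := IsScalarTower.of_algebraMap_eq (fun a => (ψ.commutes a).symm)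
  haveI : Algebra.IsIntegral B' C := ⟨fun x => (Algebra.IsIntegral.isIntegral (R := A) x).tower_top⟩
  obtain ⟨Q, -, hQ, hQP⟩ := Ideal.exists_ideal_over_prime_of_isIntegral P (⊥ : Ideal C) (by
    rw [← RingHom.ker_eq_comap_bot]
    exact hP)
  exact ⟨Q, hQ, hQP⟩

variable {A B : Type u} [CommRing A] [CommRing B] [Algebra A B] (I : Ideal A)
  (e : B ⧸ Ideal.map (algebraMap A B) I)

/-- `ρ` restricted to the integral closure. -/
noncomputable def rho' : integralClosure A B →ₐ[A]
    ((B ⧸ Ideal.map (algebraMap A B) I) ⧸ Ideal.span {1 - e}) :=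
  (rho I e).comp (integralClosure A B).val

lemma rho'_apply (b : integralClosure A B) : rho' I e b = rho I e (b : B) := rfl

theorem ker_sup_good_eq_top [Algebra.FiniteType A B] (he : IsIdempotentElem e)
    [Module.Finite A ((B ⧸ Ideal.map (algebraMap A B) I) ⧸ Ideal.span {1 - e})] :
    RingHom.ker (rho' I e) ⊔ good A B = ⊤ := by
  by_contra h
  obtain ⟨P', hP'max, hle⟩ := Ideal.exists_le_maximal _ h
  haveI := hP'max.isPrime
  have hJ : RingHom.ker (rho' I e) ≤ P' := le_sup_left.trans hle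
  have hG : good A B ≤ P' := le_sup_right.trans hle
  obtain ⟨Q, hQ, hQP⟩ := exists_prime_comap_eq (rho' I e) P' hJ
  haveI := hQ
  let q : Ideal B := Q.comap (rho I e)
  haveI : q.IsPrime := Ideal.comap_isPrime _ _
  have hq : RingHom.ker (rho I e) ≤ q := Ideal.ker_le_comap _
  obtain ⟨r, hr, hrq⟩ := exists_good_notMem q (rho I e) (rho_surjective I e)
    (hker_of_le I e he q hq)
  apply hrq
  have h1 : r ∈ Q.comap (rho' I e) := hQP ▸ hG hr
  exact h1

end Groth.Agent.H5.ZIdem
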