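import Mathlib
import Groth.Agent.Lib.Helper5.ZIdem.D

namespace Groth.Agent.H5.ZIdem

universe u

variable {A B : Type u} [CommRing A] [CommRing B] [Algebra A B] (I : Ideal A)

/-- multiplying elements of `IB` by a power of a good element lands in `IB'`. -/
theorem exists_pow_mul_mem (g : integralClosure A B) (hg : g ∈ good A B) (y : B)
    (hy : y ∈ Ideal.map (algebraMap A B) I) :
    ∃ (N : ℕ) (z : integralClosure A B),
      z ∈ Ideal.map (algebraMap A (integralClosure A B)) I ∧ (g : B) ^ N * y = (z : B) := by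
  have hgi : IsIntegral A (g : B) := g.2
  rw [Ideal.map] at hy
  change y ∈ Submodule.span B (⇑(algebraMap A B) '' ↑I) at hy
  induction hy using Submodule.span_induction with
  | mem y hy =>
    obtain ⟨a, ha, rfl⟩ := hy
    exact ⟨0, algebraMap A _ a, Ideal.mem_map_of_mem _ ha, by simp⟩
  | zero => exact ⟨0, 0, Ideal.zero_mem _, by simp⟩
  | add y₁ y₂ _ _ h₁ h₂ =>
    obtain ⟨N₁, z₁, hz₁, e₁⟩ := h₁
    obtain ⟨N₂, z₂, hz₂, e₂⟩ := h₂
    refine ⟨N₁ + N₂, g ^ N₂ * z₁ + g ^ N₁ * z₂,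
      Ideal.add_mem _ (Ideal.mul_mem_left _ _ hz₁) (Ideal.mul_mem_left _ _ hz₂), ?_⟩
    simp only [Subalgebra.coe_add, Subalgebra.coe_mul, Subalgebra.coe_pow, ← e₁, ← e₂]
    ring
  | smul b y _ h =>
    obtain ⟨N, z, hz, e₁⟩ := h
    obtain ⟨m, hm⟩ := hg b
    refine ⟨m + N, ⟨(g : B) ^ m * b, hm⟩ * z, Ideal.mul_mem_left _ _ hz, ?_⟩
    simp only [Subalgebra.coe_mul, ← e₁, smul_eq_mul]
    ring

/-- `x^(n+1) = x^n` gives an idempotent. -/
theorem isIdempotentElem_pow_of_pow_succ_eq {S : Type*} [CommRing S] (x : S) (n : ℕ)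
    (h : x ^ (n + 1) = x ^ n) : IsIdempotentElem (x ^ n) := by
  have h2 : ∀ k, x ^ (n + k) = x ^ n := by
    intro k
    induction k with
    | zero => rfl
    | succ k ih => rw [← add_assoc, pow_succ, ih, ← pow_succ, h]
  show x ^ n * x ^ n = x ^ n
  rw [← pow_add, h2]

end Groth.Agent.H5.ZIdem
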