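import Mathlib
import Groth.Agent.Lib.Helper5.ZIdem.E

namespace Groth.Agent.H5.ZIdem

universe u

variable {A B : Type u} [CommRing A] [CommRing B] [Algebra A B]

theorem bijective_of_good (g : integralClosure A B) (hg : g ∈ good A B) :
    Function.Bijective (algebraMap (Localization.Away g)
      (Localization (Algebra.algebraMapSubmonoid B (Submonoid.powers g)))) := by
  constructor
  · exact localizationAlgebra_injective (Localization.Away g)
      (Localization (Algebra.algebraMapSubmonoid B (Submonoid.powers g))) Subtype.val_injective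
  · intro y
    obtain ⟨b, ⟨s, hs⟩, rfl⟩ :=
      IsLocalization.exists_mk'_eq (Algebra.algebraMapSubmonoid B (Submonoid.powers g)) y
    obtain ⟨t, ⟨k, rfl⟩, rfl⟩ := hs
    obtain ⟨m, hm⟩ := hg b
    refine ⟨IsLocalization.mk' _ (⟨(g : B) ^ m * b, hm⟩ : integralClosure A B)
      (⟨g ^ (m + k), m + k, rfl⟩ : Submonoid.powers g), ?_⟩
    rw [localizationAlgebraMap_def, IsLocalization.map_mk', IsLocalization.mk'_eq_iff_eq]
    congr 1
    simp only [Subalgebra.algebraMap_def, Subalgebra.coe_pow, map_pow]
    show (g : B) ^ k * ((g : B) ^ m * b) = (g : B) ^ (m + k) * b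
    ring

end Groth.Agent.H5.ZIdem
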