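import Mathlib
import Groth.Agent.Lib.Helper5.ZIdem.F

namespace Groth.Agent.H5.ZIdem

universe u

theorem main (A B : Type u) [CommRing A] [CommRing B]
    [Algebra A B] [Algebra.FiniteType A B] (I : Ideal A) (e : B ⧸ Ideal.map (algebraMap A B) I)
    (he : IsIdempotentElem e)
    (hfin : Module.Finite (A ⧸ I) ((B ⧸ Ideal.map (algebraMap A B) I) ⧸ Ideal.span {1 - e})) :
    ∃ g : integralClosure A B,
      IsIdempotentElem (Ideal.Quotient.mk (Ideal.map (algebraMap A (integralClosure A B)) I) g) ∧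
      Ideal.Quotient.mk (Ideal.map (algebraMap A B) I) (g : B) = e ∧
      Function.Bijective (algebraMap (Localization.Away g)
        (Localization (Algebra.algebraMapSubmonoid B (Submonoid.powers g)))) := by
  haveI : Module.Finite A ((B ⧸ Ideal.map (algebraMap A B) I) ⧸ Ideal.span {1 - e}) :=
    finite_of_finite I e
  have htop := ker_sup_good_eq_top I e he
  have h1 : (1 : integralClosure A B) ∈ RingHom.ker (rho' I e) ⊔ good A B := htop ▸ Submodule.mem_top
  obtain ⟨j, hj, γ, hγ, hsum⟩ := Submodule.mem_sup.mp h1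
  -- ρ γ = 1
  have hργ : rho I e (γ : B) = 1 := by
    have h2 : rho' I e (j + γ) = 1 := by rw [hsum, map_one]
    rw [map_add, (RingHom.mem_ker).mp hj, zero_add] at h2
    exact h2
  obtain ⟨eB, heB⟩ := Ideal.Quotient.mk_surjective e
  -- γ̄ e = e
  have hγe : Ideal.Quotient.mk (Ideal.map (algebraMap A B) I) (γ : B) * e = e := by
    have h3 : (γ : B) - 1 ∈ RingHom.ker (rho I e) := by
      rw [RingHom.mem_ker, map_sub, hργ, map_one, sub_self]
    rw [mem_ker_rho] at h3
    obtain ⟨c, hc⟩ := h3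
    rw [map_sub, map_one] at hc
    have h4 : Ideal.Quotient.mk (Ideal.map (algebraMap A B) I) (γ : B) = 1 + c * (1 - e) := by
      rw [hc]; ring
    rw [h4, add_mul, one_mul, mul_assoc, sub_mul, one_mul, he.eq, sub_self, mul_zero, add_zero]
  have hγke : ∀ k : ℕ, Ideal.Quotient.mk (Ideal.map (algebraMap A B) I) (γ : B) ^ k * e = e := by
    intro k
    induction k with
    | zero => simp
    | succ k ih => rw [pow_succ, mul_assoc, hγe, ih]
  obtain ⟨m, hm⟩ := hγ eB
  let g₀ : integralClosure A B := ⟨(γ : B) ^ m * eB, hm⟩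
  let g : integralClosure A B := γ * g₀
  have hg : g ∈ good A B := Ideal.mul_mem_right _ _ hγ
  have hgB : (g : B) = (γ : B) ^ (m + 1) * eB := by
    show (γ : B) * ((γ : B) ^ m * eB) = _
    ring
  have hge : Ideal.Quotient.mk (Ideal.map (algebraMap A B) I) (g : B) = e := by
    rw [hgB, map_mul, map_pow, heB, hγke]
  -- g² - g ∈ IB
  have hy : (g : B) * (g : B) - (g : B) ∈ Ideal.map (algebraMap A B) I := by
    rw [← Ideal.Quotient.eq_zero_iff_mem, map_sub, map_mul, hge, he.eq, sub_self]
  obtain ⟨N, z, hz, hNz⟩ := exists_pow_mul_mem I g hg _ hy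
  have hz' : g ^ N * (g * g - g) = z := by
    apply Subtype.ext
    simpa using hNz
  set mk' := Ideal.Quotient.mk (Ideal.map (algebraMap A (integralClosure A B)) I) with hmk'
  have hpow : mk' g ^ (N + 1 + 1) = mk' g ^ (N + 1) := by
    have h5 : mk' (g ^ N * (g * g - g)) = 0 := by
      rw [hz', Ideal.Quotient.eq_zero_iff_mem]
      exact hz
    rw [map_mul, map_sub, map_mul, map_pow] at h5
    have h6 : mk' g ^ (N + 1 + 1) - mk' g ^ (N + 1) = mk' g ^ N * (mk' g * mk' g - mk' g) := by ring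
    exact sub_eq_zero.mp (h6.trans h5)
  have hidem := isIdempotentElem_pow_of_pow_succ_eq (mk' g) (N + 1) hpow
  refine ⟨g ^ (N + 1), ?_, ?_, ?_⟩
  · rw [map_pow]
    exact hidem
  · rw [Subalgebra.coe_pow, map_pow, hge]
    exact he.pow_succ_eq N
  · exact bijective_of_good _ (Ideal.pow_mem_of_mem _ hg _ (Nat.succ_pos N))

end Groth.Agent.H5.ZIdem
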